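import Cfsg.Agent.OddHalf.D9.EEight.Id.Main

/-!
# The universal 2-cover of `Ω₈⁺(2)` over an arbitrary model (helper815)

`exists_dat'`: as `EEight.Id.Sub.exists_dat`, but the letters of `X` are arbitrary (no homomorphism `K → X`), and the values
of the words are part of the conclusion. `fuse`: if `c₁ x₀ c₁⁻¹ = n₁ x₀` and `c₂ x₀ c₂⁻¹ = n₂ x₀` in words, then in every
perfect central 2-extension every lift of `x₀` is conjugate to all its multiples by the kernel.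
-/

set_option autoImplicit false

namespace Cfsg.Agent.H815.QS

open Subgroup Cfsg.Agent.SporadicRecognition.CosetCert Cfsg.Agent.SporadicRecognition.CosetCertHyp
open Cfsg.Agent.KFacts.OddLift.Basic Cfsg.Agent.OddHalf.D9.EEight.Id
open Cfsg.Agent.OddHalf.D9.EEight.Id.Core Cfsg.Agent.OddHalf.D9.EEight.Id.Sub

theorem exists_dat'.{u, v, w} {L : Type u} {X : Type w} {K : Type v} [Group L] [Group X] [Group K] (π : L →* X)
    (hπ : Function.Surjective π) {x : ℕ → X} {B : ℕ → L} {k1 k2 k3 : ℕ → K} (hBx : ∀ i, π (B i) = x i)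
    (hgen : closure {x | ∃ i < 7, B i = x} = ⊤)
    (hB : ∀ r ∈ Bound.rels, ev (lt B 7) r = 1) (h1 : ∀ r ∈ Bound.rels, ev (lt k1 7) r = 1)
    (h2 : ∀ r ∈ Bound.rels, ev (lt k2 7) r = 1) (h3 : ∀ r ∈ Bound.rels, ev (lt k3 7) r = 1)
    {n : K} (nn : n * n = 1) (hn : n ≠ 1)
    (ncomm : ∀ k, n * k = k * n) {w1 w2 : List ℕ} (x1 : ev (lt x 7) w1 = 1) (x2 : ev (lt x 7) w2 = 1)
    (a1 : ev (lt k1 7) w1 = 1) (a2 : ev (lt k2 7) w1 = n) (a3 : ev (lt k3 7) w1 = n)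
    (c1 : ev (lt k1 7) w2 = n) (c2 : ev (lt k2 7) w2 = n) (c3 : ev (lt k3 7) w2 = 1)
    (hX : Nat.card X = 174182400) :
    ∃ (D : Type (max u v)) (_ : Group D) (_ : Finite D) (S : Dat D L X K), S.π = π ∧ ∃ b : ℕ → D,
      (∀ r, S.p (ev (lt b 7) r) = ev (lt B 7) r) ∧ (∀ r, S.q1 (ev (lt b 7) r) = ev (lt k1 7) r) ∧
      (∀ r, S.q2 (ev (lt b 7) r) = ev (lt k2 7) r) ∧ S.n1 = ev (lt b 7) w1 ∧ S.n2 = ev (lt b 7) w2 := by
  set b : ℕ → L × K × K × K := fun i => (B i, k1 i, k2 i, k3 i) with hb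
  have e0 : ∀ r, (ev (lt b 7) r).1 = ev (lt B 7) r := fun r => map_ev_lt b 7 (MonoidHom.fst L (K × K × K)) r
  have e1 : ∀ r, (ev (lt b 7) r).2.1 = ev (lt k1 7) r := fun r =>
    map_ev_lt b 7 ((MonoidHom.fst K (K × K)).comp (MonoidHom.snd L (K × K × K))) r
  have e2 : ∀ r, (ev (lt b 7) r).2.2.1 = ev (lt k2 7) r := fun r =>
    map_ev_lt b 7 ((MonoidHom.fst K K).comp ((MonoidHom.snd K (K × K)).comp (MonoidHom.snd L (K × K × K)))) r
  have e3 : ∀ r, (ev (lt b 7) r).2.2.2 = ev (lt k3 7) r := fun r =>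
    map_ev_lt b 7 ((MonoidHom.snd K K).comp ((MonoidHom.snd K (K × K)).comp (MonoidHom.snd L (K × K × K)))) r
  have ex : ∀ r, π (ev (lt B 7) r) = ev (lt x 7) r := by
    intro r
    rw [map_ev_lt]
    congr 2
    funext i
    exact hBx i
  have hrel : ∀ r ∈ Bound.rels, ev (lt b 7) r = 1 := by
    intro r hr
    refine Prod.ext ?_ (Prod.ext ?_ (Prod.ext ?_ ?_))
    · rw [e0, hB r hr]; rfl
    · rw [e1, h1 r hr]; rfl
    · rw [e2, h2 r hr]; rfl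
    · rw [e3, h3 r hr]; rfl
  obtain ⟨hfin, hcard⟩ := Bound.bound hrel
  have hrelD : ∀ r ∈ CertL1.rels, ev (lt (bD b) 7) r = 1 := by
    intro r hr
    apply Subtype.ext
    rw [coe_ev, hrel r hr]
    rfl
  refine ⟨Bound.S b 7, inferInstance, hfin,
    { p := (MonoidHom.fst L (K × K × K)).comp (Bound.S b 7).subtype
      π := π
      q1 := ((MonoidHom.fst K (K × K)).comp (MonoidHom.snd L (K × K × K))).comp (Bound.S b 7).subtype
      q2 := ((MonoidHom.fst K K).comp ((MonoidHom.snd K (K × K)).comp (MonoidHom.snd L (K × K × K)))).comp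
        (Bound.S b 7).subtype
      q3 := ((MonoidHom.snd K K).comp ((MonoidHom.snd K (K × K)).comp (MonoidHom.snd L (K × K × K)))).comp
        (Bound.S b 7).subtype
      n := n
      n1 := ev (lt (bD b) 7) w1
      n2 := ev (lt (bD b) 7) w2
      psurj := ?_
      πsurj := hπ
      perfect := Perfect.perfect hrelD (closure_bD b)
      nn := nn
      hn := hn
      ncomm := ncomm
      θ1 := ?_
      θ2 := ?_
      a1 := ?_
      a2 := ?_
      a3 := ?_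
      c1 := ?_
      c2 := ?_
      c3 := ?_
      card_le := ?_ }, rfl, bD b, ?_, ?_, ?_, rfl, rfl⟩
  · rw [← MonoidHom.range_eq_top, eq_top_iff, ← hgen, closure_le]
    rintro _ ⟨i, hi, rfl⟩
    exact ⟨bD b i, by
      change (bD b i : L × K × K × K).1 = B i
      rw [coe_bD b hi]⟩
  · change π ((ev (lt (bD b) 7) w1 : Bound.S b 7) : L × K × K × K).1 = 1
    rw [coe_ev, e0, ex, x1]
  · change π ((ev (lt (bD b) 7) w2 : Bound.S b 7) : L × K × K × K).1 = 1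
    rw [coe_ev, e0, ex, x2]
  · change ((ev (lt (bD b) 7) w1 : Bound.S b 7) : L × K × K × K).2.1 = 1
    rw [coe_ev, e1, a1]
  · change ((ev (lt (bD b) 7) w1 : Bound.S b 7) : L × K × K × K).2.2.1 = n
    rw [coe_ev, e2, a2]
  · change ((ev (lt (bD b) 7) w1 : Bound.S b 7) : L × K × K × K).2.2.2 = n
    rw [coe_ev, e3, a3]
  · change ((ev (lt (bD b) 7) w2 : Bound.S b 7) : L × K × K × K).2.1 = n
    rw [coe_ev, e1, c1]
  · change ((ev (lt (bD b) 7) w2 : Bound.S b 7) : L × K × K × K).2.2.1 = n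
    rw [coe_ev, e2, c2]
  · change ((ev (lt (bD b) 7) w2 : Bound.S b 7) : L × K × K × K).2.2.2 = 1
    rw [coe_ev, e3, c3]
  · rw [hX]
    exact hcard
  · intro r
    change ((ev (lt (bD b) 7) r : Bound.S b 7) : L × K × K × K).1 = _
    rw [coe_ev, e0]
  · intro r
    change ((ev (lt (bD b) 7) r : Bound.S b 7) : L × K × K × K).2.1 = _
    rw [coe_ev, e1]
  · intro r
    change ((ev (lt (bD b) 7) r : Bound.S b 7) : L × K × K × K).2.2.1 = _
    rw [coe_ev, e2]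

/-- the word `c x c⁻¹ x⁻¹ w⁻¹` -/
def cw (c x w : List ℕ) : List ℕ := c ++ x ++ invw iv c ++ invw iv x ++ invw iv w

theorem ev_cw {G : Type*} [Group G] (b : ℕ → G) (c x w : List ℕ) :
    ev (lt b 7) (cw c x w) = ev (lt b 7) c * ev (lt b 7) x * (ev (lt b 7) c)⁻¹ * (ev (lt b 7) x)⁻¹ * (ev (lt b 7) w)⁻¹ := by
  rw [cw, ev_append, ev_append, ev_append, ev_append, ev_invw_iv, ev_invw_iv, ev_invw_iv]

/-- **Fusion.** -/
theorem fuse.{u, v, w} {L : Type u} {X : Type w} {K : Type v} [Group L] [Group X] [Finite X] [Group K] {π : L →* X}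
    (hπ : Cov π) {x : ℕ → X} {k1 k2 k3 : ℕ → K} (hx : ∀ i, Odd (orderOf (x i)))
    (hxgen : closure {y | ∃ i < 7, x i = y} = ⊤) (hrx : ∀ r ∈ Bound.rels, ev (lt x 7) r = 1)
    (hokr : ∀ r ∈ Bound.rels, okr [] r = true)
    (h1 : ∀ r ∈ Bound.rels, ev (lt k1 7) r = 1)
    (h2 : ∀ r ∈ Bound.rels, ev (lt k2 7) r = 1) (h3 : ∀ r ∈ Bound.rels, ev (lt k3 7) r = 1)
    {n : K} (nn : n * n = 1) (hn : n ≠ 1)
    (ncomm : ∀ k, n * k = k * n) {w1 w2 : List ℕ} (x1 : ev (lt x 7) w1 = 1) (x2 : ev (lt x 7) w2 = 1)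
    (a1 : ev (lt k1 7) w1 = 1) (a2 : ev (lt k2 7) w1 = n) (a3 : ev (lt k3 7) w1 = n)
    (c1 : ev (lt k1 7) w2 = n) (c2 : ev (lt k2 7) w2 = n) (c3 : ev (lt k3 7) w2 = 1)
    (hX : Nat.card X = 174182400) {w0 d1 d2 : List ℕ}
    (p0 : ev (lt x 7) (cw d1 w0 w1) = 1) (p1 : ev (lt k1 7) (cw d1 w0 w1) = 1) (p2 : ev (lt k2 7) (cw d1 w0 w1) = 1)
    (r0 : ev (lt x 7) (cw d2 w0 w2) = 1) (r1 : ev (lt k1 7) (cw d2 w0 w2) = 1) (r2 : ev (lt k2 7) (cw d2 w0 w2) = 1)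
    {y ζ : L} (hy : π y = ev (lt x 7) w0) (hζ : π ζ = 1) : IsConj y (y * ζ) := by
  obtain ⟨B, hB, hBo⟩ := hπ.exists_lifts hx
  have hgen := hπ.closure_eq_top hB hxgen
  have hrel : ∀ r ∈ Bound.rels, ev (lt B 7) r = 1 := fun r hr =>
    hπ.ev_eq_one hB hBo (odd := []) (by simp) (hokr r hr) (hrx r hr)
  obtain ⟨D, _, _, S, hS, b, hp, hq1, hq2, hn1, hn2⟩ := exists_dat' π hπ.surj hB hgen hrel h1 h2 h3 nn hn ncomm x1 x2
    a1 a2 a3 c1 c2 c3 hX
  subst hS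
  have ex : ∀ r, S.π (ev (lt B 7) r) = ev (lt x 7) r := by
    intro r
    rw [map_ev_lt]
    congr 2
    funext i
    exact hB i
  have key : ∀ d w, ev (lt x 7) (cw d w0 w) = 1 → ev (lt k1 7) (cw d w0 w) = 1 → ev (lt k2 7) (cw d w0 w) = 1 →
      S.p (ev (lt b 7) d) * ev (lt B 7) w0 * (S.p (ev (lt b 7) d))⁻¹ = S.p (ev (lt b 7) w) * ev (lt B 7) w0 := by
    intro d w u0 u1 u2
    have hm : ev (lt b 7) (cw d w0 w) ∈ S.θ.ker := by
      show S.π (S.p _) = 1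
      rw [hp, ex, u0]
    have h4 := S.eq_one_of_q hm (by rw [hq1, u1]) (by rw [hq2, u2])
    rw [ev_cw] at h4
    have h5 := congrArg S.p h4
    simp only [map_mul, map_inv, map_one] at h5
    rw [hp w0] at h5
    rw [mul_inv_eq_one, mul_inv_eq_iff_eq_mul] at h5
    exact h5
  have k1' := key d1 w1 p0 p1 p2
  have k2' := key d2 w2 r0 r1 r2
  rw [← hn1] at k1'
  rw [← hn2] at k2'
  -- central
  have hc : ∀ z : L, S.π z = 1 → ∀ g, g * z = z * g := fun z hz g => mem_center_iff.1 (hπ.central hz) g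
  -- `y = y₀ ζ'`
  obtain ⟨ζ', rfl⟩ : ∃ z, y = ev (lt B 7) w0 * z := ⟨(ev (lt B 7) w0)⁻¹ * y, by group⟩
  have hζ' : S.π ζ' = 1 := by
    rw [map_mul, ex] at hy
    exact mul_eq_left.1 hy
  have fin : ∀ g z : L, S.π z = 1 → g * ev (lt B 7) w0 * g⁻¹ = z * ev (lt B 7) w0 →
      IsConj (ev (lt B 7) w0 * ζ') (ev (lt B 7) w0 * ζ' * z) := by
    intro g z hz h
    refine isConj_iff.2 ⟨g, ?_⟩
    calc g * (ev (lt B 7) w0 * ζ') * g⁻¹ = g * ev (lt B 7) w0 * (ζ' * g⁻¹) := by group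
      _ = g * ev (lt B 7) w0 * (g⁻¹ * ζ') := by rw [hc ζ' hζ' g⁻¹]
      _ = (g * ev (lt B 7) w0 * g⁻¹) * ζ' := by group
      _ = z * ev (lt B 7) w0 * ζ' := by rw [h]
      _ = z * (ev (lt B 7) w0 * ζ') := by group
      _ = ev (lt B 7) w0 * ζ' * z := (hc z hz _).symm
  obtain ⟨m, hm⟩ := S.psurj ζ
  have hmk : m ∈ S.θ.ker := by
    show S.π (S.p m) = 1
    rw [hm, hζ]
  have hz1 : S.π (S.p S.n1) = 1 := S.θ1
  have hz2 : S.π (S.p S.n2) = 1 := S.θ2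
  rcases S.mem_ker hmk with h | h | h | h
  · rw [← hm, h, map_one, mul_one]
  · rw [← hm, h]
    exact fin _ _ hz1 k1'
  · rw [← hm, h]
    exact fin _ _ hz2 k2'
  · rw [← hm, h]
    refine fin (S.p (ev (lt b 7) d1) * S.p (ev (lt b 7) d2)) _ (by rw [map_mul, map_mul, hz1, hz2, one_mul]) ?_
    calc S.p (ev (lt b 7) d1) * S.p (ev (lt b 7) d2) * ev (lt B 7) w0 *
          (S.p (ev (lt b 7) d1) * S.p (ev (lt b 7) d2))⁻¹
        = S.p (ev (lt b 7) d1) * (S.p (ev (lt b 7) d2) * ev (lt B 7) w0 * (S.p (ev (lt b 7) d2))⁻¹) *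
          (S.p (ev (lt b 7) d1))⁻¹ := by group
      _ = S.p (ev (lt b 7) d1) * (S.p S.n2 * ev (lt B 7) w0) * (S.p (ev (lt b 7) d1))⁻¹ := by rw [k2']
      _ = (S.p (ev (lt b 7) d1) * S.p S.n2) * ev (lt B 7) w0 * (S.p (ev (lt b 7) d1))⁻¹ := by group
      _ = (S.p S.n2 * S.p (ev (lt b 7) d1)) * ev (lt B 7) w0 * (S.p (ev (lt b 7) d1))⁻¹ := by rw [hc _ hz2]
      _ = S.p S.n2 * (S.p (ev (lt b 7) d1) * ev (lt B 7) w0 * (S.p (ev (lt b 7) d1))⁻¹) := by group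
      _ = S.p S.n2 * (S.p S.n1 * ev (lt B 7) w0) := by rw [k1']
      _ = (S.p S.n2 * S.p S.n1) * ev (lt B 7) w0 := by group
      _ = (S.p S.n1 * S.p S.n2) * ev (lt B 7) w0 := by rw [hc _ hz1]
      _ = S.p (S.n1 * S.n2) * ev (lt B 7) w0 := by rw [map_mul]

end Cfsg.Agent.H815.QS
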