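import Cfsg.Agent.StdO8.Code

/-!
# `2².Ω₈⁺(2)`: data (helper815)

`lw i`: the letters of `EEight.Id` as words in Siegel transformations; `w0`: the word of `x₀` (order 8); `d1`, `d2`: words of
the elements fusing the lifts of `x₀`; `tg`: root elements as words in the letters; `dat`: `(c, u, x, k)`: the class
representative with code `c` is `x k x⁻¹ k⁻¹` with `x = u x₀ u⁻¹`.
-/

set_option autoImplicit false

namespace Cfsg.Agent.H815.QS

/-- the letters -/
def lw : ℕ → List (ℕ × ℕ)
  | 0 => [(1, 136), (16, 136)]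
  | 1 => [(1, 78), (215, 79)]
  | 2 => [(1, 138), (215, 92)]
  | 3 => [(2, 136), (32, 136)]
  | 4 => [(2, 140), (170, 38)]
  | 5 => [(1, 136), (215, 94)]
  | 6 => [(4, 138), (66, 138)]
  | _ => []

/-- the word of `x₀` -/
def w0 : List ℕ := [7, 1, 9, 11]

/-- `x₀` in Siegel transformations -/
def s0 : List (ℕ × ℕ) := [(16, 74), (171, 34), (240, 79)]

/-- the fusing words -/
def d1 : List ℕ := [5, 1, 9, 5, 11, 1, 5, 7, 2, 11, 8, 6, 2, 5, 0, 10, 4, 8, 0, 4]

/-- the fusing words -/
def d2 : List ℕ := [0, 5, 1, 11, 7, 2, 7, 11, 1, 13, 7, 3, 11, 6, 12, 4, 0, 10, 8, 3, 6, 4, 0, 10, 2, 6, 0, 4]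

/-- root elements in the letters -/
def tg : List ((ℕ × ℕ) × List ℕ) := [((1, 32), [7, 2, 11, 7, 0, 10, 6, 3, 4, 0]),
  ((2, 64), [7, 3, 11, 1, 7, 2, 7, 9, 11, 1, 5, 13, 7, 3, 10, 3, 6, 12, 4, 0, 10, 8, 6, 4, 1, 10, 2, 6]),
  ((4, 128), [7, 9, 11, 1, 5, 2, 7, 9, 4, 11, 1, 5, 13, 7, 3, 10, 3, 6, 12, 4, 0, 10, 5, 8, 6, 3, 4, 0, 10]),
  ((4, 8), [3, 0, 5, 7, 3, 9, 5, 0, 11, 1, 5, 1, 11, 6, 13, 7, 10, 2, 6, 12, 0, 10, 5, 8, 6, 1, 4, 2]),
  ((16, 32), [7, 10, 3, 7, 10, 6, 3, 4])]

/-- the class representatives -/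
def dat : List (ℕ × List (ℕ × ℕ) × List (ℕ × ℕ) × List (ℕ × ℕ)) := [
  (12979446098949527772, [(193, 121), (74, 185), (9, 244)], [(56, 141), (32, 73), (123, 54)], [(134, 61), (48, 84), (208, 94)]),
  (874024687547986692, [(52, 193), (16, 78), (222, 23)], [(6, 139), (103, 21), (14, 118)], [(204, 17), (115, 128), (126, 160)]),
  (8909669952309512282, [(18, 198), (8, 96), (132, 76)], [(2, 153), (104, 189), (18, 41)], [(80, 167), (66, 146), (1, 160)]),
  (9304684600192533888, [(5, 216), (7, 48), (88, 29)], [(14, 212), (111, 27), (7, 227)], [(102, 188), (48, 67), (146, 29)]),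
  (3723052490355125759, [(148, 71), (6, 113), (45, 218)], [(66, 182), (126, 163), (88, 169)], [(146, 70), (60, 192), (157, 86)]),
  (13332730836972322104, [(80, 168), (7, 51), (22, 228)], [(5, 121), (48, 212), (111, 131)], [(186, 107), (222, 68), (11, 230)]),
  (4337868515354672176, [(18, 167), (246, 84), (6, 16)], [(44, 197), (56, 141), (26, 68)], [(74, 176), (189, 94), (32, 209)]),
  (3248788740302259074, [(24, 195), (135, 98), (194, 83)], [(192, 47), (123, 39), (150, 76)], [(15, 165), (72, 150), (6, 115)]),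
  (16216125171541469054, [(7, 80), (133, 86), (217, 58)], [(175, 29), (33, 86), (51, 196)], [(93, 137), (73, 175), (90, 181)]),
  (7393056770562448293, [(240, 53), (6, 226), (129, 71)], [(126, 190), (88, 23), (219, 81)], [(66, 175)]),
  (9458579216561078530, [(117, 141), (88, 155), (80, 34)], [(111, 130), (105, 152), (59, 21)], [(3, 112)]),
  (9250710930311120385, [(255, 106), (133, 38), (180, 58)], [(8, 113), (28, 198), (102, 178)], [(190, 43), (132, 54), (126, 19)]),
  (1123939957377974676, [(7, 217), (67, 151)], [(80, 58), (112, 160), (95, 129)], [(36, 132), (52, 152), (73, 154)]),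
  (439924361429221765, [(75, 140), (103, 43), (2, 65)], [(210, 58), (1, 234), (5, 136)], [(240, 53), (18, 233), (102, 61)]),
  (6914593524071409975, [(12, 212), (56, 91), (93, 184)], [(97, 161), (11, 55), (36, 144)], [(225, 31), (66, 136), (41, 94)]),
  (8664961940922890768, [(18, 107), (174, 57), (56, 222)], [(103, 19), (118, 161), (75, 50)], [(75, 143), (123, 17), (117, 188)]),
  (13970202247726389824, [(157, 99), (103, 42), (255, 27)], [(245, 127), (5, 216), (18, 136)], [(237, 50), (10, 245), (179, 58)]),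
  (9386325238037070529, [(243, 94), (96, 175), (245, 35)], [(4, 42), (118, 139), (95, 167)], [(22, 238), (125, 46)]),
  (13007762571504984152, [(85, 133), (222, 83), (30, 96)], [(245, 107), (51, 21), (80, 42)], [(3, 205), (194, 122), (13, 39)]),
  (12309099740744352360, [(155, 106), (15, 55), (7, 49)], [(148, 81), (120, 61), (204, 71)], [(6, 154), (93, 34)]),
  (2719792085373938565, [(103, 142), (171, 122), (72, 57)], [(126, 159), (120, 19), (170, 34)], [(22, 33), (90, 160)]),
  (7531009797546387957, [(164, 76), (7, 9), (20, 71)], [(164, 53), (230, 50), (190, 25)], [(10, 160), (66, 152), (90, 43)]),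
  (9777231119245115652, [(33, 65), (213, 31)], [(176, 89), (15, 166), (30, 198)], [(249, 27), (65, 180), (105, 162), (234, 17)]),
  (17296911895783626239, [(10, 19), (225, 106), (16, 206)], [(2, 205), (90, 21), (255, 27)], [(13, 147), (75, 47), (148, 29)]),
  (1639628439323285709, [(64, 25), (193, 116), (93, 49)], [(7, 83), (24, 100), (222, 42)], [(5, 81), (150, 46), (3, 56)]),
  (7987111359971833808, [(41, 202), (97, 149), (7, 51)], [(194, 42), (2, 24), (60, 203)], [(75, 190), (117, 188), (179, 71)]),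
  (7627227057152119006, [(36, 218), (190, 47), (8, 18)], [(118, 47), (32, 69), (80, 181)], [(164, 121), (123, 140), (52, 206)]),
  (2637298061044299887, [(66, 153), (170, 61), (97, 21)], [(75, 145), (2, 205), (65, 42)], [(8, 85), (63, 134), (110, 154)]),
  (9383397192032637586, [(111, 42), (80, 58), (128, 50)], [(125, 189), (40, 219), (95, 134)], [(59, 130), (3, 200), (215, 53)]),
  (15912856173871448535, [(125, 158), (120, 143), (1, 128)], [(189, 89), (73, 186), (183, 114)], [(217, 76), (157, 19), (171, 79)]),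
  (11547370252164946529, [(252, 114), (194, 119), (134, 23)], [(111, 49), (219, 19), (155, 46)], [(24, 66), (118, 21), (192, 46)]),
  (8678572046609555062, [(192, 113), (14, 97), (255, 108)], [(51, 17), (217, 49), (157, 91)], [(13, 35), (245, 50)]),
  (393773000931835474, [(45, 19), (230, 119)], [(2, 209), (10, 165), (185, 49)], [(5, 250), (95, 53), (72, 49)]),
  (325699563250943551, [(63, 217), (13, 85), (115, 47)], [(129, 27), (63, 69), (159, 39)], [(55, 198), (175, 124)]),
  (18056150458342153569, [(51, 200), (90, 145), (85, 135)], [(219, 78), (60, 195), (171, 89)], [(189, 122), (210, 76), (132, 77)]),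
  (76281953585750465, [(252, 31), (56, 206), (87, 128)], [(133, 77), (72, 191), (10, 162)], [(245, 89), (150, 94), (18, 175)]),
  (13373731138556896585, [(97, 46), (67, 157), (15, 165)], [(104, 170), (96, 145), (24, 167)], [(1, 224), (183, 43), (88, 155)]),
  (7963779238459973079, [(132, 127), (14, 180), (2, 156)], [(28, 169), (12, 54), (4, 19)], [(195, 39), (28, 198), (246, 91)]),
  (7351944098296018140, [(65, 163), (120, 185), (117, 156)], [(4, 137), (146, 29), (67, 21)], [(10, 163), (217, 19)])]

end Cfsg.Agent.H815.QS
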